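import Cfsg.Agent.H358.IF.Cls
import Cfsg.Agent.H411.L4.LR

/-!
# S5719, cell `PSL four`, `q` odd, piece T3 (helper833): an involution of type `diag(1,1,1,-1)` in `A` gives one of type
`diag(-1,-1,1,1)`
-/

set_option autoImplicit false
set_option linter.unusedSectionVars false

namespace Cfsg.Agent.H833.IF

open Matrix Cfsg.Agent.H209.Fxy Cfsg.Agent.H358.IF Module

variable {F : Type} [Field F]

/-- the matrix `diag(1,1,1,-1)` -/
def D3 : Matrix I4 I4 F := fromBlocks 1 0 0 !![1, 0; 0, -1]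

theorem dot4 (r v : I4 → F) : r ⬝ᵥ v = r (Sum.inl 0) * v (Sum.inl 0) + r (Sum.inl 1) * v (Sum.inl 1) +
    (r (Sum.inr 0) * v (Sum.inr 0) + r (Sum.inr 1) * v (Sum.inr 1)) := by
  simp [dotProduct, Fintype.sum_sum_type, Fin.sum_univ_two]

/-- `1 + v ⊗ r` -/
def tm (v r : I4 → F) : Matrix I4 I4 F := 1 + vecMulVec v r

theorem tm_mulVec (v r w : I4 → F) : tm v r *ᵥ w = w + (r ⬝ᵥ w) • v := by
  unfold tm
  rw [add_mulVec, one_mulVec, vecMulVec_mulVec, op_smul_eq_smul]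

theorem mat_ext {A B : Matrix I4 I4 F} (h : ∀ w, A *ᵥ w = B *ᵥ w) : A = B := by
  apply Matrix.toLin'.injective
  ext1 w
  ext1
  simp only [LinearMap.comp_apply, toLin'_apply]
  exact h _

theorem tm_zero (v : I4 → F) : tm v 0 = 1 := by
  apply mat_ext
  intro w
  rw [tm_mulVec, one_mulVec, zero_dotProduct, zero_smul, add_zero]

theorem tm_mul {v r r' : I4 → F} (h : r ⬝ᵥ v = 0) : tm v r * tm v r' = tm v (r + r') := by
  apply mat_ext
  intro w
  rw [← mulVec_mulVec, tm_mulVec, tm_mulVec, tm_mulVec, dotProduct_add, dotProduct_smul, h, smul_zero, add_zero,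
    add_dotProduct]
  module

theorem tm_det {v r : I4 → F} (h : r ⬝ᵥ v = 0) : (tm v r).det = 1 := by
  unfold tm
  rw [vecMulVec_eq Unit, det_one_add_replicateCol_mul_replicateRow, h, add_zero]

/-- `1 + v ⊗ r` in `SL` -/
def ts (v r : I4 → F) (h : r ⬝ᵥ v = 0) : S4 F := ⟨tm v r, tm_det h⟩

theorem tm_inj {v r : I4 → F} (hv : v ≠ 0) (h : tm v r = 1) : r = 0 := by
  obtain ⟨i, hi⟩ := Function.ne_iff.1 hv
  ext j
  have h1 := congrFun (congrFun h i) j
  unfold tm at h1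
  rw [Matrix.add_apply, vecMulVec_apply] at h1
  have h2 : v i * r j = 0 := by linear_combination h1
  exact (mul_eq_zero.1 h2).resolve_left hi

theorem D3_mulVec {v : I4 → F} (hv : v (Sum.inr 1) = 0) : (D3 : Matrix I4 I4 F) *ᵥ v = v := by
  ext i
  show (fun j => D3 i j) ⬝ᵥ v = _
  rw [dot4]
  rcases i with i | i <;> fin_cases i <;> simp [D3, hv]

theorem vecMul_D3 {r : I4 → F} (hr : r (Sum.inr 1) = 0) : r ᵥ* (D3 : Matrix I4 I4 F) = r := by
  ext j
  show r ⬝ᵥ (fun i => D3 i j) = _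
  rw [dot4]
  rcases j with i | i <;> fin_cases i <;> simp [D3, hr]

theorem tm_comm {v r : I4 → F} (hv : v (Sum.inr 1) = 0) (hr : r (Sum.inr 1) = 0) : tm v r * D3 = D3 * tm v r := by
  unfold tm
  rw [add_mul, mul_add, one_mul, mul_one, vecMulVec_mul, mul_vecMulVec, D3_mulVec hv, vecMul_D3 hr]

/-- the linear map `r ↦ (r · v, r · v')` -/
def L2 (v v' : I4 → F) : (I4 → F) →ₗ[F] F × F where
  toFun r := (r ⬝ᵥ v, r ⬝ᵥ v')
  map_add' r s := by simp [add_dotProduct]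
  map_smul' c r := by simp [smul_dotProduct]

theorem mem_ker_L2 {v v' r : I4 → F} : r ∈ LinearMap.ker (L2 v v') ↔ r ⬝ᵥ v = 0 ∧ r ⬝ᵥ v' = 0 := by
  rw [LinearMap.mem_ker]
  exact Prod.mk_eq_zero

theorem finrank_ker_L2 (v v' : I4 → F) : 2 ≤ finrank F (LinearMap.ker (L2 v v')) := by
  have h1 := LinearMap.finrank_range_add_finrank_ker (L2 v v')
  have h2 := Submodule.finrank_le (LinearMap.range (L2 v v'))
  rw [Module.finrank_prod, Module.finrank_self] at h2
  rw [Module.finrank_fintype_fun_eq_card, Fintype.card_sum, Fintype.card_fin] at h1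
  omega

/-- the group of the `1 + v ⊗ r` -/
def phi (v v' : I4 → F) : Multiplicative (LinearMap.ker (L2 v v')) →* S4 F where
  toFun r := ts v (Multiplicative.toAdd r).1 (mem_ker_L2.1 (Multiplicative.toAdd r).2).1
  map_one' := Subtype.ext (tm_zero v)
  map_mul' r _ := Subtype.ext (tm_mul (mem_ker_L2.1 (Multiplicative.toAdd r).2).1).symm

theorem phi_inj {v : I4 → F} (hv : v ≠ 0) (v' : I4 → F) : Function.Injective (phi v v') := by
  rw [injective_iff_map_eq_one]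
  intro r hr
  have h1 : tm v (Multiplicative.toAdd r).1 = 1 := congrArg Subtype.val hr
  have h2 := tm_inj hv h1
  have h3 : Multiplicative.toAdd r = 0 := Subtype.ext h2
  exact Multiplicative.toAdd.injective h3

/-- the index equivalence -/
def e31 : Fin 3 ⊕ Fin 1 ≃ I4 := (finSumFinEquiv : Fin 3 ⊕ Fin 1 ≃ Fin 4).trans (finSumFinEquiv : Fin 2 ⊕ Fin 2 ≃ Fin 4).symm

/-- `SL₃ → SL₄` -/
def i3 (g : SpecialLinearGroup (Fin 3) F) : S4 F :=
  slR e31 ⟨fromBlocks g.val 0 0 (1 : Matrix (Fin 1) (Fin 1) F), by rw [det_fromBlocks_zero₂₁, g.2, det_one, mul_one]⟩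

theorem i3_inj : Function.Injective (i3 : SpecialLinearGroup (Fin 3) F → S4 F) := by
  intro g h hgh
  have h1 := (slR (F := F) e31).injective hgh
  have h2 := congrArg Subtype.val h1
  have h3 := (fromBlocks_inj.1 h2).1
  exact Subtype.ext h3

theorem D3_eq : (D3 : Matrix I4 I4 F) =
    Matrix.reindex e31 e31 (fromBlocks (1 : Matrix (Fin 3) (Fin 3) F) 0 0 (-1 : Matrix (Fin 1) (Fin 1) F)) := by
  have h0 : e31.symm (Sum.inl 0) = Sum.inl 0 := rfl
  have h1 : e31.symm (Sum.inl 1) = Sum.inl 1 := rfl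
  have h2 : e31.symm (Sum.inr 0) = Sum.inl 2 := rfl
  have h3 : e31.symm (Sum.inr 1) = Sum.inr 0 := rfl
  ext i j
  rcases i with i | i <;> rcases j with j | j <;> fin_cases i <;> fin_cases j <;>
    simp [D3, h0, h1, h2, h3]

theorem i3_comm (g : SpecialLinearGroup (Fin 3) F) : (i3 g).val * D3 = D3 * (i3 g).val := by
  rw [D3_eq]
  show Matrix.reindex e31 e31 _ * _ = _ * Matrix.reindex e31 e31 _
  have h1 : ∀ M N : Matrix (Fin 3 ⊕ Fin 1) (Fin 3 ⊕ Fin 1) F,
      Matrix.reindex e31 e31 M * Matrix.reindex e31 e31 N = Matrix.reindex e31 e31 (M * N) := fun M N =>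
    (map_mul (Matrix.reindexAlgEquiv F F e31) M N).symm
  rw [h1, h1, fromBlocks_multiply, fromBlocks_multiply]
  simp

theorem ord_s (h2 : (2 : F) ≠ 0) {s : S4 F} {l : F} (hl : s.val = l • D3) : orderOf (pr s) = 2 := by
  have hl0 : l ≠ 0 := by
    rintro rfl
    have h3 := s.2
    rw [hl, zero_smul, det_zero] at h3
    exact zero_ne_one h3
  apply ord_pr (c := l * l)
  · rw [hl, smul_mul_smul_comm]
    congr 1
    rw [D3, fromBlocks_multiply]
    simp only [mul_zero, zero_mul, add_zero, zero_add, mul_one, Matrix.mul_fin_two]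
    rw [← fromBlocks_one]
    congr 1
    ext i j
    fin_cases i <;> fin_cases j <;> simp
  · intro d hd
    have h3 := congrFun (congrFun hd (Sum.inr 0)) (Sum.inr 0)
    have h4 := congrFun (congrFun hd (Sum.inr 1)) (Sum.inr 1)
    rw [hl] at h3 h4
    simp [D3] at h3 h4
    have h5 : (2 : F) * l = 0 := by linear_combination h3 - h4
    exact (mul_ne_zero h2 hl0) h5

theorem comm_s {s x : S4 F} {l : F} (hl : s.val = l • D3) (hx : x.val * D3 = D3 * x.val) : pr (x * s) = pr (s * x) := by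
  congr 1
  apply Subtype.ext
  show x.val * s.val = s.val * x.val
  rw [hl, Matrix.mul_smul, Matrix.smul_mul, hx]

section Fin

variable [Fintype F]

theorem card_S3 : (Fintype.card F - 1) * Nat.card (SpecialLinearGroup (Fin 3) F) =
    (Fintype.card F ^ 3 - 1) * (Fintype.card F ^ 3 - Fintype.card F) * (Fintype.card F ^ 3 - Fintype.card F ^ 2) := by
  have h1 := Cfsg.Agent.S0242.result (F := F) rfl 3 (by norm_num)
  rw [Fin.prod_univ_three] at h1
  simpa using h1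

theorem num3 {q x y f : ℕ} (hq : 2 ≤ q) (h3 : (q - 1) * x = (q ^ 3 - 1) * (q ^ 3 - q) * (q ^ 3 - q ^ 2))
    (h4 : y = q ^ 6 * ((q ^ 4 - 1) * (q ^ 3 - 1) * (q ^ 2 - 1))) (h : f ^ 5 * x < y) : f < q ^ 2 := by
  have e1 : q ^ 3 - q = q * (q ^ 2 - 1) := by rw [Nat.mul_sub]; ring_nf
  have e2 : q ^ 3 - q ^ 2 = q ^ 2 * (q - 1) := by rw [Nat.mul_sub]; ring_nf
  have hx : x = q ^ 3 * ((q ^ 3 - 1) * (q ^ 2 - 1)) := by
    apply Nat.eq_of_mul_eq_mul_left (show 0 < q - 1 by omega)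
    rw [h3, e1, e2]
    ring
  have h5 : f ^ 5 * (q ^ 3 * ((q ^ 3 - 1) * (q ^ 2 - 1))) <
      (q ^ 3 * (q ^ 4 - 1)) * (q ^ 3 * ((q ^ 3 - 1) * (q ^ 2 - 1))) := by
    rw [← hx]
    refine h.trans_le (le_of_eq ?_)
    rw [h4, hx]
    ring
  have h6 := lt_of_mul_lt_mul_right h5 (Nat.zero_le _)
  by_contra hcon
  have h7 : (q ^ 2) ^ 5 ≤ f ^ 5 := Nat.pow_le_pow_left (by omega) 5
  have h8 : q ^ 3 * (q ^ 4 - 1) ≤ q ^ 3 * q ^ 4 := Nat.mul_le_mul_left _ (Nat.sub_le _ _)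
  have h9 : q ^ 3 * q ^ 4 ≤ (q ^ 2) ^ 5 := by
    rw [← pow_add, ← pow_mul]
    exact Nat.pow_le_pow_right (by omega) (by norm_num)
  omega

/-- for each `v` of the hyperplane there is a transvection of `A` with centre `v` -/
theorem exists_tv (h2 : (2 : F) ≠ 0) {A : Subgroup (P4 F)} (h : IFA A) {s : S4 F} (hs : s ∈ At A) {l : F}
    (hl : s.val = l • D3) {v : I4 → F} (hv : v ≠ 0) (hv1 : v (Sum.inr 1) = 0) :
    ∃ (r : I4 → F) (hr : r ⬝ᵥ v = 0), r ≠ 0 ∧ r (Sum.inr 1) = 0 ∧ ts v r hr ∈ At A := by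
  classical
  set v' : I4 → F := Pi.single (Sum.inr 1) 1 with hv'
  have hv'1 : ∀ r : I4 → F, r ⬝ᵥ v' = r (Sum.inr 1) := fun r => by rw [hv', dotProduct_single, mul_one]
  have h1 := h.key (by simp) hs (ord_s h2 hl) (B := (phi v v').range) (by
    rintro _ ⟨r, rfl⟩
    exact comm_s hl (tm_comm hv1 ((hv'1 _).symm.trans (mem_ker_L2.1 (Multiplicative.toAdd r).2).2)))
    (C := Set.range i3) (by
    rintro _ ⟨g, rfl⟩
    exact comm_s hl (i3_comm g))
  have h3 := h1.1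
  rw [← Nat.card_coe_set_eq, Nat.card_range_of_injective i3_inj] at h3
  have h4 := num3 Fintype.one_lt_card card_S3 card_S4 h3
  have h5 : Fintype.card F ^ 2 ≤ Nat.card (phi v v').range := by
    have h6 : Nat.card (phi v v').range = Nat.card (Multiplicative (LinearMap.ker (L2 v v'))) :=
      (Nat.card_congr (MonoidHom.ofInjective (phi_inj hv v')).toEquiv).symm
    rw [h6]
    have h7 : Nat.card (Multiplicative (LinearMap.ker (L2 v v'))) = Nat.card (LinearMap.ker (L2 v v')) := rfl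
    rw [h7, Module.natCard_eq_pow_finrank (K := F), Nat.card_eq_fintype_card]
    exact Nat.pow_le_pow_right Fintype.card_pos (finrank_ker_L2 v v')
  have h6 : At A ⊓ (phi v v').range ≠ ⊥ := by
    intro h7
    have h8 : (At A).relIndex (phi v v').range = Nat.card (phi v v').range := by
      rw [← Subgroup.inf_relIndex_right, h7, Subgroup.relIndex_bot_left]
    omega
  obtain ⟨⟨x, hx1, hx2⟩, hx⟩ := Subgroup.ne_bot_iff_exists_ne_one.1 h6
  obtain ⟨r, rfl⟩ := hx2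
  obtain ⟨ha, hb⟩ := mem_ker_L2.1 (Multiplicative.toAdd r).2
  refine ⟨(Multiplicative.toAdd r).1, ha, ?_, (hv'1 _).symm.trans hb, hx1⟩
  intro h7
  apply hx
  have h8 : Multiplicative.toAdd r = 0 := Subtype.ext h7
  have h9 : r = 1 := h8
  apply Subtype.ext
  show phi v v' r = 1
  rw [h9, map_one]

/-- opposite transvections -/
def Opp (A : Subgroup (P4 F)) : Prop :=
  ∃ (v r v' r' : I4 → F) (h : r ⬝ᵥ v = 0) (h' : r' ⬝ᵥ v' = 0), r ⬝ᵥ v' ≠ 0 ∧ r' ⬝ᵥ v ≠ 0 ∧
    ts v r h ∈ At A ∧ ts v' r' h' ∈ At A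

theorem exists_opp (h2 : (2 : F) ≠ 0) {A : Subgroup (P4 F)} (h : IFA A) {s : S4 F} (hs : s ∈ At A) {l : F}
    (hl : s.val = l • D3) : Opp A := by
  classical
  set v1 : I4 → F := Pi.single (Sum.inl 0) 1 with hv1
  have hd1 : ∀ r : I4 → F, r ⬝ᵥ v1 = r (Sum.inl 0) := fun r => by rw [hv1, dotProduct_single, mul_one]
  obtain ⟨r1, hr1, hn1, hz1, hA1⟩ := exists_tv h2 h hs hl (v := v1) (by
    rw [hv1]
    exact Pi.single_ne_zero_iff.2 one_ne_zero) (by rw [hv1]; simp)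
  -- the second vector
  obtain ⟨v2, hv2, hv21, h12⟩ : ∃ v2 : I4 → F, v2 ≠ 0 ∧ v2 (Sum.inr 1) = 0 ∧ r1 ⬝ᵥ v2 ≠ 0 := by
    obtain ⟨i, hi⟩ := Function.ne_iff.1 hn1
    refine ⟨Pi.single i 1, Pi.single_ne_zero_iff.2 one_ne_zero, ?_, ?_⟩
    · rw [Pi.single_eq_of_ne]
      rintro rfl
      exact hi hz1
    · rw [dotProduct_single, mul_one]
      exact hi
  obtain ⟨r2, hr2, hn2, hz2, hA2⟩ := exists_tv h2 h hs hl hv2 hv21
  by_cases h21 : r2 ⬝ᵥ v1 = 0
  swap
  · exact ⟨v1, r1, v2, r2, hr1, hr2, h12, h21, hA1, hA2⟩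
  -- the third vector
  set w : I4 → F := fun i => match i with
    | Sum.inl i => ![0, - r1 (Sum.inr 0)] i
    | Sum.inr i => ![r1 (Sum.inl 1), 0] i with hw
  have hw0 : w (Sum.inl 0) = 0 := rfl
  have hw1 : w (Sum.inl 1) = - r1 (Sum.inr 0) := rfl
  have hw2 : w (Sum.inr 0) = r1 (Sum.inl 1) := rfl
  have hw3 : w (Sum.inr 1) = 0 := rfl
  have hdw : ∀ r : I4 → F, r ⬝ᵥ w = r (Sum.inr 0) * r1 (Sum.inl 1) - r (Sum.inl 1) * r1 (Sum.inr 0) := by
    intro r
    rw [dot4, hw0, hw1, hw2, hw3]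
    ring
  -- a vector `r` which vanishes at `v1`, `v2`, `w` is zero
  have hzero : ∀ r : I4 → F, r ⬝ᵥ v1 = 0 → r (Sum.inr 1) = 0 → r ⬝ᵥ v2 = 0 → r ⬝ᵥ w = 0 → r = 0 := by
    intro r ha hb hc hd
    rw [hd1] at ha
    rw [hdw] at hd
    rw [dot4, ha, hb] at hc
    have h12' := h12
    rw [dot4, ← hd1 r1, hr1, hz1] at h12'
    have h5 : r (Sum.inl 1) = 0 := by
      have h6 : r (Sum.inl 1) * (0 * v2 (Sum.inl 0) + r1 (Sum.inl 1) * v2 (Sum.inl 1) +
          (r1 (Sum.inr 0) * v2 (Sum.inr 0) + 0 * v2 (Sum.inr 1))) = 0 := by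
        linear_combination r1 (Sum.inl 1) * hc - v2 (Sum.inr 0) * hd
      exact (mul_eq_zero.1 h6).resolve_right h12'
    have h6 : r (Sum.inr 0) = 0 := by
      have h6 : r (Sum.inr 0) * (0 * v2 (Sum.inl 0) + r1 (Sum.inl 1) * v2 (Sum.inl 1) +
          (r1 (Sum.inr 0) * v2 (Sum.inr 0) + 0 * v2 (Sum.inr 1))) = 0 := by
        linear_combination r1 (Sum.inr 0) * hc + v2 (Sum.inl 1) * hd
      exact (mul_eq_zero.1 h6).resolve_right h12'
    ext i
    rcases i with i | i <;> fin_cases i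
    · exact ha
    · exact h5
    · exact h6
    · exact hb
  have hw1' : r1 ⬝ᵥ w = 0 := by rw [hdw]; ring
  have h2w : r2 ⬝ᵥ w ≠ 0 := fun h5 => hn2 (hzero r2 h21 hz2 hr2 h5)
  have h13 : r1 ⬝ᵥ (v2 + w) ≠ 0 := by rw [dotProduct_add, hw1', add_zero]; exact h12
  have h23 : r2 ⬝ᵥ (v2 + w) ≠ 0 := by rw [dotProduct_add, hr2, zero_add]; exact h2w
  obtain ⟨r3, hr3, hn3, hz3, hA3⟩ := exists_tv h2 h hs hl (v := v2 + w) (by
    intro h5
    rw [h5, dotProduct_zero] at h13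
    exact h13 rfl) (by rw [Pi.add_apply, hv21, hw3, add_zero])
  by_cases h31 : r3 ⬝ᵥ v1 = 0
  swap
  · exact ⟨v1, r1, v2 + w, r3, hr1, hr3, h13, h31, hA1, hA3⟩
  refine ⟨v2, r2, v2 + w, r3, hr2, hr3, h23, ?_, hA2, hA3⟩
  intro h5
  apply hn3
  apply hzero r3 h31 hz3 h5
  rw [dotProduct_add, h5, zero_add] at hr3
  exact hr3

/-- opposite transvections give `t0` up to conjugation -/
theorem opp_conj (h2 : (2 : F) ≠ 0) {A : Subgroup (P4 F)} (h : Opp A) : ∃ g : GL I4 F, (t0 : S4 F) ∈ At (cA g A) := by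
  classical
  obtain ⟨v, r, v', r', hr, hr', ha, hb, hx, hx'⟩ := h
  obtain ⟨W, hW⟩ := exists_linearIndependent_of_le_finrank (finrank_ker_L2 r r')
  let b : I4 → (I4 → F) := fun i => match i with
    | Sum.inl i => ![v, v'] i
    | Sum.inr i => (W i).1
  have hWr : ∀ i, r ⬝ᵥ (W i).1 = 0 := fun i => by
    rw [dotProduct_comm]
    exact (mem_ker_L2.1 (W i).2).1
  have hWr' : ∀ i, r' ⬝ᵥ (W i).1 = 0 := fun i => by
    rw [dotProduct_comm]
    exact (mem_ker_L2.1 (W i).2).2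
  have hlin : LinearIndependent F b := by
    rw [Fintype.linearIndependent_iff]
    intro g hg
    rw [Fintype.sum_sum_type, Fin.sum_univ_two, Fin.sum_univ_two] at hg
    have hg1 := congrArg (fun u => r ⬝ᵥ u) hg
    have hg2 := congrArg (fun u => r' ⬝ᵥ u) hg
    simp only [b, Matrix.cons_val_zero, Matrix.cons_val_one, dotProduct_add, dotProduct_smul, hr, hr', hWr, hWr',
      mul_zero, add_zero, zero_add, dotProduct_zero, smul_eq_mul] at hg1 hg2
    have h3 : g (Sum.inl 1) = 0 := (mul_eq_zero.1 hg1).resolve_right ha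
    have h4 : g (Sum.inl 0) = 0 := (mul_eq_zero.1 hg2).resolve_right hb
    rw [h3, h4, zero_smul, zero_smul, zero_add, zero_add] at hg
    have h5 := Fintype.linearIndependent_iff.1 hW (fun i => g (Sum.inr i)) (by
      rw [Fin.sum_univ_two]
      exact Subtype.ext hg)
    rintro (i | i)
    · fin_cases i
      · exact h4
      · exact h3
    · exact h5 i
  let B : Basis I4 F (I4 → F) := basisOfLinearIndependentOfCardEqFinrank hlin (by
    rw [Module.finrank_fintype_fun_eq_card])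
  have hB : ∀ i, B i = b i := fun i => by
    simp [B]
  obtain ⟨g, hg⟩ := conj_of_basis B
  refine ⟨g, ?_⟩
  have h3 : (cS g (ts v r hr)).val = fromBlocks !![1, r ⬝ᵥ v'; 0, 1] 0 0 1 := by
    apply hg
    intro j
    show tm v r *ᵥ B j = _
    rw [tm_mulVec, Fintype.sum_sum_type, Fin.sum_univ_two, Fin.sum_univ_two, hB, hB, hB, hB, hB]
    rcases j with j | j <;> fin_cases j <;> simp [b, hr, hWr, add_comm]
  have h4 : (cS g (ts v' r' hr')).val = fromBlocks !![1, 0; r' ⬝ᵥ v, 1] 0 0 1 := by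
    apply hg
    intro j
    show tm v' r' *ᵥ B j = _
    rw [tm_mulVec, Fintype.sum_sum_type, Fin.sum_univ_two, Fin.sum_univ_two, hB, hB, hB, hB, hB]
    rcases j with j | j <;> fin_cases j <;> simp [b, hr', hWr', add_comm]
  let x : S2 F := ⟨!![1, r ⬝ᵥ v'; 0, 1], by rw [det_fin_two_of]; ring⟩
  let x' : S2 F := ⟨!![1, 0; r' ⬝ᵥ v, 1], by rw [det_fin_two_of]; ring⟩
  have h5 : cS g (ts v r hr) = blk (x, 1) := Subtype.ext h3
  have h6 : cS g (ts v' r' hr') = blk (x', 1) := Subtype.ext h4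
  obtain ⟨y, hy, hyy⟩ := H411.L4.exists_sq h2 ha hb ((At (cA g A)).comap (blk.comp (MonoidHom.inl (S2 F) (S2 F))))
    (x := x) (x' := x') (by
      show blk (x, 1) ∈ At (cA g A)
      rw [← h5]
      exact mem_cA.2 hx) (by
      show blk (x', 1) ∈ At (cA g A)
      rw [← h6]
      exact mem_cA.2 hx') rfl rfl
  have hy' : blk (y, 1) ∈ At (cA g A) := hy
  have h7 : (t0 : S4 F) = blk (y, 1) * blk (y, 1) := by
    rw [← map_mul]
    apply Subtype.ext
    rw [t0_val]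
    show _ = fromBlocks (y.val * y.val) 0 0 ((1 : M2 F) * 1)
    rw [hyy, mul_one]
  rw [h7]
  exact mul_mem hy' hy'

/-- **T3** -/
theorem t3_conj (h2 : (2 : F) ≠ 0) {A : Subgroup (P4 F)} (h : IFA A) {s : S4 F} (hs : s ∈ At A) {l : F}
    (hl : s.val = l • Matrix.fromBlocks 1 0 0 !![1, 0; 0, -1]) : ∃ g : GL I4 F, (t0 : S4 F) ∈ At (cA g A) :=
  opp_conj h2 (exists_opp h2 h hs hl)

end Fin

end Cfsg.Agent.H833.IF
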